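import Groth.Agent.CSALib.Index
import Groth.Agent.CSALib.Splitting
import Mathlib.FieldTheory.SeparableClosure
import Mathlib.LinearAlgebra.Basis.VectorSpace
import Mathlib.RingTheory.TensorProduct.Free

/-!
Central division algebras are defined over a finitely generated subfield.
-/

universe u v w

set_option linter.style.haveILetI false

namespace Groth.Agent.BrauerXDescent

open TensorProduct

/-- A central division algebra descends to any subfield containing suitable finitely many
structure constants. -/
theorem exists_descent {K : Type u} [Field K] {L : Type u} [Field L] [Algebra K L]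
    [Algebra.IsAlgebraic K L] (D : Type u) [DivisionRing D] [Algebra L D] [Algebra.IsCentral L D]
    [FiniteDimensional L D] :
    ∃ (E : IntermediateField K L) (_ : FiniteDimensional K E) (D₀ : Type u) (_ : DivisionRing D₀)
      (_ : Algebra E D₀) (_ : Algebra.IsCentral E D₀) (_ : FiniteDimensional E D₀),
        Nonempty ((L ⊗[E] D₀) ≃ₐ[L] D) := by
  classical
  obtain ⟨ι, _, b, o, hbo⟩ : ∃ (ι : Type u) (_ : Fintype ι) (b : Module.Basis ι L D) (o : ι), b o = 1 := by
    have hs : LinearIndepOn L id ({1} : Set D) := LinearIndepOn.singleton (R := L) one_ne_zero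
    let b := Module.Basis.extend hs
    haveI : Finite (hs.extend (Set.subset_univ ({1} : Set D))) := Module.Finite.finite_basis b
    exact ⟨_, Fintype.ofFinite _, b, ⟨1, hs.subset_extend _ (Set.mem_singleton 1)⟩,
      Module.Basis.extend_apply_self hs _⟩
  let S : Set L := Set.range fun q : ι × ι × ι => b.repr (b q.1 * b q.2.1) q.2.2
  let E : IntermediateField K L := IntermediateField.adjoin K S
  haveI : Finite S := Set.finite_range _
  haveI hEfin : FiniteDimensional K E :=
    IntermediateField.finiteDimensional_adjoin fun x _ => Algebra.IsIntegral.isIntegral x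
  have hmem : ∀ i j, b i * b j ∈ Submodule.span E (Set.range b) := fun i j => by
    rw [b.mem_span_iff_repr_mem E]
    exact fun l => ⟨⟨_, IntermediateField.subset_adjoin K S ⟨(i, j, l), rfl⟩⟩, rfl⟩
  have hmul : ∀ x y, x ∈ Submodule.span E (Set.range b) → y ∈ Submodule.span E (Set.range b) →
      x * y ∈ Submodule.span E (Set.range b) := by
    intro x y hx hy
    induction hx using Submodule.span_induction with
    | mem x hx =>
      obtain ⟨i, rfl⟩ := hx
      induction hy using Submodule.span_induction with
      | mem y hy => obtain ⟨j, rfl⟩ := hy; exact hmem i j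
      | zero => simp
      | add a c _ _ ha hc => rw [mul_add]; exact Submodule.add_mem _ ha hc
      | smul r a _ ha => rw [mul_smul_comm]; exact Submodule.smul_mem _ r ha
    | zero => simp
    | add a c _ _ ha hc => rw [add_mul]; exact Submodule.add_mem _ ha hc
    | smul r a _ ha => rw [smul_mul_assoc]; exact Submodule.smul_mem _ r ha
  have hone : (1 : D) ∈ Submodule.span E (Set.range b) := Submodule.subset_span ⟨o, hbo⟩
  let D₀ : Subalgebra E D := (Submodule.span E (Set.range b)).toSubalgebra hone hmul
  let b₀ : Module.Basis ι E D₀ := b.restrictScalars E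
  haveI : Module.Finite E D₀ := Module.Finite.of_basis b₀
  haveI : IsDomain D₀ := inferInstance
  letI : DivisionRing D₀ := divisionRingOfFiniteDimensional E D₀
  have hb₀ : ∀ i, ((b₀ i : D₀) : D) = b i := fun i => b.restrictScalars_apply E i
  have hcentral : Algebra.IsCentral E D₀ := ⟨fun z hz => by
    have hzc : (z : D) ∈ Subalgebra.center L D := by
      rw [Subalgebra.mem_center_iff]
      intro d
      rw [← b.sum_repr d, Finset.sum_mul, Finset.mul_sum]
      refine Finset.sum_congr rfl fun i _ => ?_
      rw [smul_mul_assoc, mul_smul_comm, ← hb₀ i]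
      exact congrArg _ (congrArg Subtype.val ((Subalgebra.mem_center_iff.1 hz) (b₀ i)))
    obtain ⟨c, hc⟩ := Algebra.IsCentral.out hzc
    have h : b.repr (z : D) o ∈ (algebraMap E L).range :=
      (b.mem_span_iff_repr_mem E (z : D)).1 z.2 o
    rw [← show algebraMap L D c = (z : D) from hc, Algebra.algebraMap_eq_smul_one, ← hbo, map_smul,
      b.repr_self, Finsupp.smul_apply, Finsupp.single_eq_same, smul_eq_mul, mul_one] at h
    obtain ⟨e, rfl⟩ := h
    exact Algebra.mem_bot.2 ⟨e, Subtype.ext hc⟩⟩
  let Φ : L ⊗[E] D₀ →ₐ[L] D := Algebra.TensorProduct.lift (Algebra.ofId L D) D₀.val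
    fun x y => (show Commute (Algebra.ofId L D x) (D₀.val y) from Algebra.commutes x (D₀.val y))
  let e := (Algebra.TensorProduct.basis L b₀).equiv b (Equiv.refl ι)
  have hΦ : ∀ i, Φ (Algebra.TensorProduct.basis L b₀ i) = e (Algebra.TensorProduct.basis L b₀ i) := by
    intro i
    rw [Module.Basis.equiv_apply, Algebra.TensorProduct.basis_apply]
    refine (Algebra.TensorProduct.lift_tmul (Algebra.ofId L D) D₀.val _ 1 (b₀ i)).trans ?_
    rw [map_one, one_mul]
    exact hb₀ i
  have hbij : Function.Bijective Φ := by
    rw [show ⇑Φ = ⇑e from congrArg DFunLike.coe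
      ((Algebra.TensorProduct.basis L b₀).ext hΦ : Φ.toLinearMap = e.toLinearMap)]
    exact e.bijective
  exact ⟨E, hEfin, D₀, inferInstance, inferInstance, hcentral, inferInstance,
    ⟨AlgEquiv.ofBijective Φ hbij⟩⟩

end Groth.Agent.BrauerXDescent
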